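import Cfsg.Agent.BN2.Base
import Cfsg.Agent.BNP.Res
import Cfsg.Agent.BNP.Dih
import Cfsg.Agent.Grp.Fitting

/-!
# The polygon of a rank two Tits system

`T` a Tits system on `ι = {a, b}`, `n = orderOf (s a * s b) ≥ 3`.  Vertices: panels,
`V = (G ⧸ T.par {a}) ⊕ (G ⧸ T.par {b})` (or `Σ`/quotients of `Ch T` by `Rs T {a}`, `Rs T {b}`);
a chamber `c` has an `a`-vertex `va c` and a `b`-vertex `vb c`, `va c = va c' ↔ Rs T {a} c c'`,
`adj` = "are the two vertices of one chamber" (a chamber is determined by its two vertices since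
`WJ {a} ⊓ WJ {b} = ⊥`); `ty` = the type.  A line `p` gives a gallery `c_k = {p k, p (k+1)}` with
`δ c_k c_{k+1}` = the generator of the type of `p (k+1)` (alternating); so
`δ c_0 c_k = av · · k` for `k ≤ n` (`dist_add'`, `wlen_av`).
* `girth`: if `p k = p 0`, `0 < k < 2n`, then `c_0` and `c_{k-1}` share the vertex `p 0`, so
  `δ c_0 c_{k-1} ∈ {1, s}`, `s` of the type of `p 0`; `k` is even (types).  If `k - 1 ≤ n`,
  `δ c_0 c_{k-1}` is alternating of length `k - 1` starting with the other letter: impossible.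
  Otherwise `ℓ δ(c_0,c_n) = n` and `c_n, …, c_{k-1}` has length `≤ n - 2`, so
  `ℓ δ(c_0,c_{k-1}) ≥ 2`.
* the standard apartment: `x` with `{x (-k), x (-k+1)} = ap (av a b k)`,
  `{x k, x (k+1)} = ap (av b a k)` (`0 ≤ k ≤ n`), `x 0` = `a`-vertex of `ap 1`; e.g.
  `x (2j) = va (ap ((s b * s a)^j))`, `x (2j+1) = vb (ap ((s b * s a)^j))`, `j : ℤ`.
* `ext_ap`, `strong`: `c_0, c_n` are opposite; `exists_smul_eq` moves them to `ap 1, ap w₀`
  (resp. to a pair in the standard apartment), `mid_unique`/`eq_ap_of_btw` identify the gallery;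
  an apartment is determined by `n + 2` consecutive vertices (prove `girth` first; the argument of
  `Pol.uniq`, `Pol.ap_eq` in `BN2/Base` only uses `girth`).
* `rigid`: `rigid_ap` with `J = univ` and `Faith`.  `thick`: `exists_ne_two`.
* `A a b :=` the join of all nilpotent subgroups of `Stab a ⊓ Stab b` normalized by it (nilpotent
  by Fitting's theorem; see how `BN2/Prime` does it).  `split`: conjugate the apartment to `x`
  or to its reflection `i ↦ 1 - i` (`A_symm`), `U ≤ A (x 0) (x 1)` by `A_max`.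
-/

set_option autoImplicit false

namespace Cfsg.Agent.BN2

open Cfsg.Agent.St Cfsg.Agent.Chev Cfsg.Agent.BNP

universe u

variable {G : Type u} {ι W : Type*} [Group G] [Group W]

/-- `U` is a nilpotent normal subgroup of `B`, transitive on the apartments through `B` -/
structure Spl (T : Tits G ι W) (U : Subgroup G) : Prop where
  le : U ≤ T.B
  conj : ∀ b ∈ T.B, ∀ u ∈ U, b * u * b⁻¹ ∈ U
  nil : Group.IsNilpotent U
  dec : ∀ b ∈ T.B, ∃ u ∈ U, u⁻¹ * b ∈ Fx T Set.univ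

/-- dictionary between the Tits system and the polygon -/
structure Dict (T : Tits G ι W) (a b : ι) {V : Type u} [MulAction G V] (P : Pol G V)
    (x : ℤ → V) : Prop where
  n_eq : P.n = orderOf (T.s a * T.s b)
  ap : P.Ap x
  B_iff : ∀ g, g ∈ T.B ↔ g • x 0 = x 0 ∧ g • x 1 = x 1
  Fx_iff : ∀ g, g ∈ Fx T Set.univ ↔ ∀ i, g • x i = x i
  X_iff : ∀ l < P.n, ∀ g, g ∈ X T (bt T.s a b l) ↔
    ∀ k : ℤ, -l < k → k < -l + P.n → g ∈ P.K (x k)
  mouf_a : ∀ H ≤ T.B, P.Tr H (x 0) (x 1) → ∀ y, dist T (BNP.ap T 1) y = T.s a →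
    ∃ g ∈ H, g • BNP.ap T (T.s a) = y
  mouf_b : ∀ H ≤ T.B, P.Tr H (x 1) (x 0) → ∀ y, dist T (BNP.ap T 1) y = T.s b →
    ∃ g ∈ H, g • BNP.ap T (T.s b) = y
  qq_a : qq T a = P.sz (x 0)
  qq_b : qq T b = P.sz (x 1)

namespace Br

theorem ft_conj {H H' : Subgroup G} (g : G) (h : ∀ x, x ∈ H ↔ g * x * g⁻¹ ∈ H') {u : G}
    (hu : u ∈ (fittingSubgroup H).map H.subtype) :
    g * u * g⁻¹ ∈ (fittingSubgroup H').map H'.subtype := by
  obtain ⟨u, hu, rfl⟩ := hu
  let f : H →* H' := ((MulAut.conj g).toMonoidHom.comp H.subtype).codRestrict H' fun x => (h x).1 x.2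
  exact ⟨f u, Grp.map_fitting_le_of_surjective f (fun y => ⟨⟨g⁻¹ * y * g, (h _).2 (by
    simp [mul_assoc])⟩, Subtype.ext (by simp [f, mul_assoc])⟩) ⟨u, hu, rfl⟩, rfl⟩

/-- alternating types -/
def τ (t : Bool) (k : ℤ) : Bool := if k % 2 = 0 then t else !t

theorem τ_succ (t : Bool) (k : ℤ) : τ t (k + 1) = !τ t k := by
  unfold τ; split_ifs <;> first | omega | simp

theorem τ_zero (t : Bool) : τ t 0 = t := rfl

theorem τ_two (t : Bool) (k n : ℤ) : τ t (k + 2 * n) = τ t k := by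
  unfold τ; rw [Int.add_mul_emod_self_left]

theorem lt_τ (l : Bool → ι) (t : Bool) (i : ℤ) (k : ℕ) :
    lt (l !τ t i) (l (τ t i)) k = l (τ t (i + k + 1)) := by
  unfold lt τ; split_ifs <;> first | omega | simp

variable (T : Tits G ι W) (l : Bool → ι)

local notation "δ" => dist T
local notation "𝐬" => T.s
local notation "ℓ" => wlen T.s

def rel : Setoid (Bool × Ch T) where
  r x y := x.1 = y.1 ∧ Rs T {l x.1} x.2 y.2
  iseqv := ⟨fun x => ⟨rfl, Rs.refl _ _⟩, fun h => ⟨h.1.symm, h.1 ▸ h.2.symm⟩,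
    fun h h' => ⟨h.1.trans h'.1, h.2.trans (h.1 ▸ h'.2)⟩⟩

/-- the vertices -/
def Vx : Type u := Quotient (rel T l)

variable {T}

def vx (t : Bool) (c : Ch T) : Vx T l := Quotient.mk _ (t, c)

variable {l}

instance : MulAction G (Vx T l) where
  smul g := Quotient.map' (fun x => (x.1, g • x.2)) fun _ _ h => ⟨h.1, (rs_smul g).2 h.2⟩
  one_smul v := Quotient.inductionOn' v fun x => congrArg (vx l x.1) (one_smul G x.2)
  mul_smul g h v := Quotient.inductionOn' v fun x => congrArg (vx l x.1) (mul_smul g h x.2)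

instance [Finite G] : Finite (Vx T l) := Quotient.finite _

theorem smul_vx (g : G) (t : Bool) (c : Ch T) : g • vx l t c = vx l t (g • c) := rfl

theorem vx_eq {t : Bool} {c c' : Ch T} : vx l t c = vx l t c' ↔ Rs T {l t} c c' :=
  ⟨fun h => (Quotient.exact h).2, fun h => Quotient.sound ⟨rfl, h⟩⟩

theorem exists_vx (v : Vx T l) : ∃ t c, v = vx l t c :=
  Quotient.inductionOn' v fun x => ⟨x.1, x.2, rfl⟩

def ty (v : Vx T l) : Bool := Quotient.liftOn' v (·.1) fun _ _ h => h.1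

theorem ty_vx (t : Bool) (c : Ch T) : ty (vx l t c) = t := rfl

def adj (v v' : Vx T l) : Prop := ∃ t c, v = vx l t c ∧ v' = vx l (!t) c

theorem adj_vx {t : Bool} {c : Ch T} {z : Vx T l} :
    adj (vx l t c) z ↔ ∃ y, Rs T {l t} c y ∧ z = vx l (!t) y := by
  refine ⟨fun ⟨t', y, e, e'⟩ => ?_, fun ⟨y, h, e⟩ => ⟨t, y, vx_eq.2 h, e⟩⟩
  obtain rfl : t = t' := congrArg ty e
  exact ⟨y, vx_eq.1 e, e'⟩

/-- alternating galleries -/
def Gal (l : Bool → ι) (t : Bool) (c : ℤ → Ch T) : Prop :=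
  ∀ k, δ (c k) (c (k + 1)) = 𝐬 (l (τ t (k + 1)))

theorem Gal.smul {t : Bool} {c : ℤ → Ch T} (h : Gal l t c) (g : G) : Gal l t fun k => g • c k :=
  fun k => (BNP.dist_smul g _ _).trans (h k)

theorem Gal.vx_succ {t : Bool} {c : ℤ → Ch T} (h : Gal l t c) (k : ℤ) :
    vx l (τ t (k + 1)) (c (k + 1)) = vx l (!τ t k) (c k) := by
  rw [← τ_succ]; exact (vx_eq.2 (rs_gen (h k))).symm

variable (T l) in
/-- the chambers of the standard apartment -/
def wz (t : Bool) (k : ℤ) : W :=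
  (𝐬 (l !t) * 𝐬 (l t)) ^ (k / 2) * if k % 2 = 0 then 1 else 𝐬 (l !t)

theorem wz_succ (t : Bool) (k : ℤ) : wz T l t (k + 1) = wz T l t k * 𝐬 (l (τ t (k + 1))) := by
  unfold wz τ
  split_ifs with h1 h2 h2
  · omega
  · rw [show (k + 1) / 2 = k / 2 + 1 by omega, zpow_add_one, mul_one, mul_assoc]
  · rw [show (k + 1) / 2 = k / 2 by omega, mul_one]
  · omega

theorem wz_zero (t : Bool) : wz T l t 0 = 1 := by simp [wz]

theorem wz_pred (t : Bool) (k : ℤ) : wz T l t (k - 1) = wz T l t k * 𝐬 (l (τ t k)) := by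
  have := wz_succ (T := T) (l := l) t (k - 1)
  rw [sub_add_cancel] at this
  rw [this, cancel_r T.cox]

theorem gal_wz (t : Bool) : Gal l t fun k => ap T (wz T l t k) := fun k => by
  simp only [wz_succ, dist_ap_mul]

theorem wz_nat (t : Bool) (k : ℕ) : wz T l t k = av 𝐬 (l !t) (l t) k := by
  induction k with
  | zero => exact wz_zero t
  | succ k ih =>
    rw [av_succ', ← ih, Nat.cast_succ, wz_succ]
    congr 2
    simpa [τ_zero] using (lt_τ l t 0 k).symm

theorem wz_neg (t : Bool) (k : ℕ) : wz T l t (-k) = av 𝐬 (l t) (l !t) k := by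
  induction k with
  | zero => exact wz_zero t
  | succ k ih =>
    rw [av_succ', ← ih, Nat.cast_succ, neg_add', wz_pred]
    congr 2
    unfold lt τ; split_ifs <;> first | omega | rfl

variable (T l) in
noncomputable def nn : ℕ := orderOf (𝐬 (l false) * 𝐬 (l true))

theorem ord (t : Bool) : orderOf (𝐬 (l !t) * 𝐬 (l t)) = nn T l := by
  cases t
  · exact ord_comm T.cox _ _
  · rfl

theorem wz_per (t : Bool) (k : ℤ) : wz T l t (k + 2 * nn T l) = wz T l t k := by
  unfold wz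
  rw [Int.add_mul_emod_self_left, Int.add_mul_ediv_left _ _ two_ne_zero, zpow_add, zpow_natCast,
    ← ord t, pow_orderOf_eq_one, mul_one]

variable [Finite W]

theorem Gal.dist {t : Bool} {c : ℤ → Ch T} (h : Gal l t c) (i : ℤ) {k : ℕ} (hk : k ≤ nn T l) :
    δ (c i) (c (i + k)) = av 𝐬 (l !τ t i) (l (τ t i)) k := by
  induction k with
  | zero => simp
  | succ k ih =>
    have e := ih (by omega)
    rw [av_succ', lt_τ, ← e, Nat.cast_succ, ← add_assoc]
    refine dist_right_up (h _) ?_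
    rw [e, ← lt_τ l t i k]
    exact not_RD_av T.cox (by rw [ord]; omega)

theorem Gal.len {t : Bool} {c : ℤ → Ch T} (h : Gal l t c) {i j : ℤ} (h1 : i ≤ j)
    (h2 : j ≤ i + nn T l) : (ℓ (δ (c i) (c j)) : ℤ) = j - i := by
  obtain ⟨k, rfl⟩ := Int.le.dest h1
  rw [h.dist i (by omega), wlen_av T.cox (by rw [ord]; omega)]; ring

theorem Gal.dist_eq {t : Bool} {c c' : ℤ → Ch T} (h : Gal l t c) (h' : Gal l t c') {i j : ℤ}
    (h1 : i ≤ j) (h2 : j ≤ i + nn T l) : δ (c i) (c j) = δ (c' i) (c' j) := by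
  obtain ⟨k, rfl⟩ := Int.le.dest h1
  rw [h.dist i (by omega), h'.dist i (by omega)]

theorem Gal.eq {t : Bool} {c c' : ℤ → Ch T} (h : Gal l t c) (h' : Gal l t c') {i j : ℤ}
    (e1 : c i = c' i) (e2 : c (i + nn T l) = c' (i + nn T l)) (h1 : i ≤ j) (h2 : j ≤ i + nn T l) :
    c j = c' j := by
  refine mid_unique (x := c i) (z := c (i + nn T l)) (by rw [h.dist_eq h' h1 h2, e1])
    (by rw [h.dist_eq h' h2 (by omega), e2]) ?_
  have a1 := h.len h1 h2
  have a2 := h.len h2 (by omega)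
  have a3 := (gal_wz (T := T) (l := l) t).len (i := i) (j := i + nn T l) (by omega) le_rfl
  rw [h.dist_eq (gal_wz t) h1 h2, h.dist_eq (gal_wz t) h2 (by omega)] at *
  simp only [dist_ap] at *
  rw [mul_assoc, mul_inv_cancel_left]
  omega

theorem Gal.exists_smul {t : Bool} {c c' : ℤ → Ch T} (h : Gal l t c) (h' : Gal l t c') :
    ∃ g : G, ∀ j : ℤ, 0 ≤ j → j ≤ nn T l → g • c j = c' j := by
  obtain ⟨g, e1, e2⟩ := exists_smul_eq (h.dist_eq h' (i := 0) (j := 0 + nn T l) (by omega) le_rfl)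
  exact ⟨g, fun j h1 h2 => (h.smul g).eq h' e1 e2 h1 (by omega)⟩

theorem Gal.exists_smul' {t : Bool} {c c' : ℤ → Ch T} (h : Gal l t c) (h' : Gal l t c')
    (p : ∀ k, c (k + 2 * nn T l) = c k) (p' : ∀ k, c' (k + 2 * nn T l) = c' k) :
    ∃ g : G, ∀ j, g • c j = c' j := by
  obtain ⟨g, e⟩ := h.exists_smul h'
  have n0 : 0 < nn T l := ord_pos T.cox _ _
  have per : ∀ {c : ℤ → Ch T}, (∀ k, c (k + 2 * nn T l) = c k) → ∀ i m : ℤ,
      c (i + m * (2 * nn T l)) = c i := fun {c} p i m => by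
    induction m using Int.induction_on with
    | zero => simp
    | succ m ih => rw [← ih, ← p (i + m * _)]; congr 1; ring
    | pred m ih => rw [← ih, ← p (i + (-m - 1) * _)]; congr 1; ring
  refine ⟨g, fun j => ?_⟩
  have r1 := Int.emod_nonneg j (b := 2 * nn T l) (by omega)
  have r2 := Int.emod_lt_of_pos j (b := 2 * nn T l) (by omega)
  rw [← Int.emod_add_ediv_mul j (2 * nn T l), per p, per p']
  by_cases r : j % (2 * nn T l) ≤ nn T l
  · exact e _ r1 r
  refine (h.smul g).eq h' (i := nn T l) (e _ (by omega) le_rfl) ?_ (by omega) (by omega)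
  rw [← two_mul, ← zero_add (2 * _ : ℤ), p, p']
  exact e 0 le_rfl (by omega)

section
variable (hl : l false ≠ l true)
include hl

omit [Finite W] in
theorem ch_eq {t : Bool} {c c' : Ch T} (h : vx l t c = vx l t c') (h' : vx l (!t) c = vx l (!t) c') :
    c = c' := by
  by_contra r
  have := T.cox.inj (((vx_eq.1 h).dist_eq r).symm.trans ((vx_eq.1 h').dist_eq r))
  cases t
  exacts [hl this, hl this.symm]

omit [Finite W] in
theorem Gal.line {t : Bool} {c : ℤ → Ch T} (h : Gal l t c) :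
    IsLine adj fun k => vx l (τ t k) (c k) := by
  refine ⟨fun k => ⟨_, _, rfl, h.vx_succ k⟩, fun k e => ?_⟩
  have e1 := h.vx_succ (k + 1)
  rw [add_assoc, one_add_one_eq_two] at e1
  dsimp only at e
  rw [e1, τ_succ, Bool.not_not] at e
  exact ne_of_dist_gen (h k) (ch_eq hl e.symm (by rw [← h.vx_succ, τ_succ]))

omit hl [Finite W] in
theorem exists_gal {p : ℤ → Vx T l} (h : IsLine adj p) :
    ∃ c, Gal l (ty (p 0)) c ∧ ∀ k, p k = vx l (τ (ty (p 0)) k) (c k) := by
  choose t c e1 e2 using h.1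
  have st : ∀ k, t (k + 1) = !t k := fun k => congrArg ty ((e1 (k + 1)).symm.trans (e2 k))
  have e : ∀ k, t k = τ (ty (p 0)) k := fun k => by
    induction k using Int.induction_on with
    | zero => rw [e1 0]; rfl
    | succ k ih => rw [st, τ_succ, ih]
    | pred k ih =>
      have a := st (-k - 1)
      have b := τ_succ (ty (p 0)) (-k - 1)
      rw [sub_add_cancel] at a b
      exact Bool.not_inj (a.symm.trans (ih.trans b))
  refine ⟨c, fun k => ?_, fun k => e k ▸ e1 k⟩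
  have := (e2 k).symm.trans (e1 (k + 1))
  rw [← st, e] at this
  refine (vx_eq.1 this).dist_eq fun r => h.2 k ?_
  rw [← one_add_one_eq_two, ← add_assoc, e2, st, Bool.not_not, e1 k, r]

omit [Finite W] in
theorem exists_gal' {p : ℤ → Vx T l} (h : IsAp adj (nn T l) p) :
    ∃ c, Gal l (ty (p 0)) c ∧ (∀ k, p k = vx l (τ (ty (p 0)) k) (c k)) ∧
      ∀ k, c (k + 2 * nn T l) = c k := by
  obtain ⟨c, h1, h2⟩ := exists_gal h.1
  generalize ty (p 0) = t at *
  refine ⟨c, h1, h2, fun k => ch_eq hl (t := τ t k) ?_ ?_⟩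
  · rw [← h2, ← h.2, h2, τ_two]
  · rw [← h1.vx_succ, ← h2, ← h.2, ← τ_two _ k (nn T l), ← h1.vx_succ, ← h2, add_right_comm]

omit [Finite W] in
theorem ap_std (t : Bool) (g : G) :
    IsAp adj (nn T l) fun k => vx l (τ t k) (g • ap T (wz T l t k)) :=
  ⟨((gal_wz t).smul g).line hl, fun k => by simp only [τ_two, wz_per]⟩

omit [Finite W] in
theorem fix_iff {t : Bool} {c : Ch T} {g : G} :
    g • c = c ↔ g • vx l t c = vx l t c ∧ g • vx l (!t) c = vx l (!t) c :=
  ⟨fun h => by rw [smul_vx, smul_vx, h]; exact ⟨rfl, rfl⟩, fun h => ch_eq hl h.1 h.2⟩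

omit [Finite W] in
theorem kr_iff {t : Bool} {c : Ch T} {g : G} : g ∈ Kr T c {l t} ↔
    g • vx l t c = vx l t c ∧ ∀ z, adj (vx l t c) z → g • z = z := by
  refine ⟨fun h => ⟨by rw [smul_vx, Kr_self h], fun z hz => ?_⟩, fun h y hy => ?_⟩
  · obtain ⟨y, hy, rfl⟩ := adj_vx.1 hz
    rw [smul_vx, mem_Kr.1 h y hy]
  · exact (fix_iff hl).2 ⟨vx_eq.2 hy ▸ h.1, h.2 _ (adj_vx.2 ⟨y, hy, rfl⟩)⟩

end

theorem girth {p : ℤ → Vx T l} (h : IsLine adj p) {k : ℤ} (h1 : 0 < k) (h2 : k < 2 * nn T l) :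
    p k ≠ p 0 := fun e => by
  have e0 := e
  obtain ⟨c, g, hc⟩ := exists_gal h
  generalize ty (p 0) = t at *
  have e1 := g.vx_succ (k - 1)
  rw [← τ_succ, sub_add_cancel] at e1
  rw [hc, hc, e1] at e
  have e2 : τ t k = t := congrArg ty e
  rw [e2, τ_zero] at e
  have r := (vx_eq.1 e).symm
  have len : ∀ u ∈ WJ 𝐬 {l t}, ℓ u ≤ 1 := fun u hu => by
    rcases (mem_WJ_one T.cox).1 hu with rfl | rfl
    · rw [(wlen_eq_zero T.cox).2 rfl]; omega
    · rw [T.cox.wlen_gen]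
  by_cases a : k - 1 ≤ nn T l
  · have a1 := g.len (i := 0) (j := k - 1) (by omega) (by omega)
    have a2 := len _ r
    rcases (by omega : k = 1 ∨ k = 2) with rfl | rfl
    · revert e2; cases t <;> decide
    · exact h.2 0 e0
  obtain ⟨u, hu, a1⟩ := r.exists_left (c (nn T l))
  have a2 := T.cox.inv.wlen_mul_le u (δ (c (k - 1)) (c (nn T l)))
  rw [← a1, dist_comm (c (nn T l)) (c (k - 1)), T.cox.wlen_inv] at a2
  have a3 := g.len (i := 0) (j := nn T l) (by omega) (by omega)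
  have a4 := g.len (i := nn T l) (j := k - 1) (by omega) (by omega)
  have a5 := len u hu
  omega

omit [Finite W] in
theorem mem_B {g : G} : g ∈ T.B ↔ g • ap T 1 = ap T 1 := by
  rw [ap_one, smul_mk, QuotientGroup.eq, mul_one, mul_one, inv_mem_iff]

omit [Finite W] in
theorem pair_univ (hs : ∀ k, k = l false ∨ k = l true) (t : Bool) :
    ({l !t, l t} : Set ι) = Set.univ := by
  refine Set.eq_univ_of_forall fun k => ?_
  cases t
  exacts [(hs k).symm, hs k]

theorem exists_wz (hs : ∀ k, k = l false ∨ k = l true) (t : Bool) (w : W) :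
    ∃ k : ℤ, -nn T l ≤ k ∧ k ≤ nn T l ∧ w = wz T l t k := by
  obtain ⟨k, hk, e | e⟩ := eq_av T.cox (a := l !t) (b := l t) (v := w) (by
    rw [pair_univ hs, T.cox.WJ_univ]; trivial) <;> rw [ord] at hk
  · exact ⟨k, by omega, by omega, by rw [wz_nat, e]⟩
  · exact ⟨-k, by omega, by omega, by rw [wz_neg, e]⟩

theorem wz_mem {m : ℕ} (hm : m < nn T l) {k : ℤ} (h1 : -nn T l ≤ k) (h2 : k ≤ nn T l) :
    wz T l false k ∈ bt 𝐬 (l false) (l true) m ↔ -m ≤ k ∧ k < -m + nn T l := by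
  obtain ⟨j, rfl | rfl⟩ := k.eq_nat_or_neg
  · rw [wz_nat, Bool.not_false, av_mem_bt' T.cox (by unfold nn at h2; omega) hm]
    unfold nn; omega
  · rw [wz_neg, Bool.not_false, av_mem_bt T.cox (by unfold nn at h1; omega) hm]
    omega

open MulAction in
/-- the polygon -/
noncomputable def pol [Finite G] (hl : l false ≠ l true) (hs : ∀ k, k = l false ∨ k = l true)
    (hn : 3 ≤ nn T l) (hf : Faith T) {U : Subgroup G} (hU : Spl T U) : Pol G (Vx T l) :=
  let A : Vx T l → Vx T l → Subgroup G := fun a b =>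
    (fittingSubgroup ↥(stabilizer G a ⊓ stabilizer G b)).map (Subgroup.subtype _)
  have cj : ∀ (g : G) {a b : Vx T l} {u : G}, u ∈ A a b → g * u * g⁻¹ ∈ A (g • a) (g • b) :=
    fun g _ _ _ => ft_conj g fun x => by simp [mul_smul]
  have mx : ∀ {a b : Vx T l} (H : Subgroup G), (∀ u ∈ H, u • a = a ∧ u • b = b) →
      (∀ g : G, g • a = a → g • b = b → ∀ u ∈ H, g * u * g⁻¹ ∈ H) → Group.IsNilpotent H →
      H ≤ A a b := fun H h1 h2 =>
    Grp.le_map_fitting h1 (Subgroup.le_normalizer_iff.2 fun g hg => h2 g hg.1 hg.2)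
  { n := nn T l
    three_le := hn
    adj := adj
    adj_symm := fun ⟨t, c, e, e'⟩ => ⟨!t, c, e', by rwa [Bool.not_not]⟩
    adj_smul := fun g _ _ ⟨t, c, e, e'⟩ => ⟨t, g • c, by rw [e, smul_vx], by rw [e', smul_vx]⟩
    ty := ty
    ty_adj := fun ⟨t, c, e, e'⟩ => by rw [e, e', ty_vx, ty_vx]; simp
    ty_smul := fun g a => by obtain ⟨t, c, rfl⟩ := exists_vx a; rfl
    thick := fun a b b' => by
      obtain ⟨t, c, rfl⟩ := exists_vx a
      have k : ∀ b, ∃ y₀, ∀ y, Rs T {l t} c y → vx l (!t) y = b → y = y₀ := fun b => by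
        by_cases r : ∃ y, Rs T {l t} c y ∧ vx l (!t) y = b
        · obtain ⟨y₀, h1, h2⟩ := r
          exact ⟨y₀, fun y h3 h4 => ch_eq hl (vx_eq.2 (h3.symm.trans h1)) (h4.trans h2.symm)⟩
        · exact ⟨c, fun y h3 h4 => absurd ⟨y, h3, h4⟩ r⟩
      obtain ⟨y, hy⟩ := k b
      obtain ⟨y', hy'⟩ := k b'
      obtain ⟨z, h1, h2, h3⟩ := exists_ne_two c (l t) y y'
      exact ⟨_, adj_vx.2 ⟨z, h1, rfl⟩, mt (hy z h1) h2, mt (hy' z h1) h3⟩
    girth := fun _ h _ => girth h
    ext_ap := fun p h => by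
      obtain ⟨c, h1, h2⟩ := exists_gal h
      obtain ⟨g, e⟩ := (gal_wz _).exists_smul h1
      generalize ty (p 0) = t at *
      refine ⟨_, ap_std hl t g, fun i a b => ?_⟩
      rcases b.eq_or_lt with rfl | b
      · rw [h2, h1.vx_succ, ← e _ (by omega) le_rfl]
        exact ((gal_wz _).smul g).vx_succ _
      · rw [h2 i, ← e i a (by omega)]
    strong := fun x y hx hy e => by
      obtain ⟨c, h1, h2, h3⟩ := exists_gal' hl hx
      obtain ⟨c', h1', h2', h3'⟩ := exists_gal' hl hy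
      rw [← e] at h1' h2'
      obtain ⟨g, r⟩ := h1.exists_smul' h1' h3 h3'
      exact ⟨g, fun i => by rw [h2 i, h2' i, smul_vx, r]⟩
    rigid := fun x hx g h0 h1 h2 => by
      obtain ⟨c, hc, e⟩ := exists_gal hx.1
      have e' : ∀ k, x (k + 1) = vx l (!τ (ty (x 0)) k) (c k) := fun k => (e _).trans (hc.vx_succ k)
      have fx : ∀ k, g • c k = c k := fun k => (fix_iff hl).2 ⟨e k ▸ h0 k, e' k ▸ h0 _⟩
      have e1 := e' 0
      rw [zero_add] at e1
      refine hf.eq_one (rigid_smul (fx 0) (fun j _ => ?_) ?_ (fx (0 + nn T l)))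
      · rcases (pair_univ hs (τ (ty (x 0)) 0)).ge (Set.mem_univ j) with rfl | rfl
        · exact (kr_iff hl).2 (e1 ▸ ⟨h0 1, h2⟩)
        · exact (kr_iff hl).2 (e 0 ▸ ⟨h0 0, h1⟩)
      · rw [hc.dist 0 le_rfl, ← pair_univ hs, ← ord]
        exact isTop_av T.cox _ _
    A := A
    A_symm := fun a b => by simp only [A]; rw [inf_comm]
    A_conj := cj
    A_fix := fun hu => (Subgroup.map_subtype_le _ hu).1
    A_nil := fun _ => Grp.isNilpotent_map_fitting _
    A_max := fun H _ => mx H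
    split := fun x hx g h0 h1 => by
      obtain ⟨c, hc, e, p⟩ := exists_gal' hl hx
      generalize ty (x 0) = t at *
      obtain ⟨h, r⟩ := (gal_wz t).exists_smul' hc (fun k => by rw [wz_per]) p
      have r0 := r 0
      rw [wz_zero] at r0
      have e1 : x 1 = vx l (!t) (c 0) := (e (0 + 1)).trans (hc.vx_succ 0)
      have e0 : x 0 = vx l t (c 0) := e 0
      rw [e0] at h0
      rw [e1] at h1
      obtain ⟨u, hu, k⟩ := hU.dec (h⁻¹ * g * h) (mem_B.2 (by
        rw [mul_smul, mul_smul, r0, (fix_iff hl).2 ⟨h0, h1⟩, ← r0, inv_smul_smul]))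
      refine ⟨h * u * h⁻¹, ?_, fun i => ?_⟩
      · rw [e0, e1, ← r0, ← smul_vx, ← smul_vx]
        exact cj h (mx U (fun u hu => (fix_iff hl).1 (mem_B.1 (hU.le hu)))
          (fun g a b => hU.conj g (mem_B.2 ((fix_iff hl).2 ⟨a, b⟩))) hU.nil hu)
      · have := k (wz T l t i) trivial
        rw [mul_smul, inv_smul_eq_iff, mul_smul, mul_smul, inv_smul_eq_iff] at this
        rw [e i, smul_vx, smul_vx, ← r, this, mul_smul, mul_smul, inv_smul_smul] }

section
variable [Finite G] {hl : l false ≠ l true} {hs : ∀ k, k = l false ∨ k = l true}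
  {hn : 3 ≤ nn T l} {hf : Faith T} {U : Subgroup G} {hU : Spl T U}

theorem mouf (t : Bool) {H : Subgroup G} (hH : H ≤ T.B)
    (h : (pol hl hs hn hf hU).Tr H (vx l t (ap T 1)) (vx l (!t) (ap T 1))) {y : Ch T}
    (hy : δ (ap T 1) y = 𝐬 (l t)) : ∃ g ∈ H, g • ap T (𝐬 (l t)) = y := by
  have k : ∀ {y}, δ (ap T 1) y = 𝐬 (l t) → vx l (!t) y ≠ vx l (!t) (ap T 1) := fun hy e =>
    ne_of_dist_gen hy (ch_eq hl (vx_eq.2 (rs_gen hy)) e.symm)
  have h0 := dist_ap_one (T := T) (𝐬 (l t))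
  obtain ⟨g, hg, e⟩ := h _ _ (adj_vx.2 ⟨_, rs_gen h0, rfl⟩) (adj_vx.2 ⟨_, rs_gen hy, rfl⟩) (k h0) (k hy)
  exact ⟨g, hg, ch_eq hl (vx_eq.2 (((rs_gen h0).smul_of_fix (mem_B.1 (hH hg))).symm.trans
    (rs_gen hy))) e⟩

theorem qq_eq (t : Bool) : qq T (l t) = (pol hl hs hn hf hU).sz (vx l t (ap T 1)) := by
  have : {z | adj (vx l t (ap T 1)) z} =
      vx l (!t) '' insert (ap T 1) {y | δ (ap T 1) y = 𝐬 (l t)} := by
    ext z
    simp only [Set.mem_setOf_eq, adj_vx, rs_one, Set.mem_image, Set.mem_insert_iff, eq_comm]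
  change _ = {z | adj _ z}.ncard - 1
  have m : ∀ y ∈ insert (ap T 1) {y | δ (ap T 1) y = 𝐬 (l t)}, Rs T {l t} (ap T 1) y :=
    fun y hy => rs_one.2 (hy.imp_left Eq.symm)
  rw [this, Set.ncard_image_of_injOn fun y hy y' hy' e =>
    ch_eq hl (vx_eq.2 ((m y hy).symm.trans (m y' hy'))) e,
    Set.ncard_insert_of_notMem (s := {y | δ (ap T 1) y = 𝐬 (l t)}) fun h => ne_of_dist_gen h rfl]
  rfl

end

end Br

open Br in
theorem exists_dict [Finite G] [Finite W] (T : Tits G ι W) {a b : ι} (hab : a ≠ b)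
    (hι : ∀ k, k = a ∨ k = b) (hn : 3 ≤ orderOf (T.s a * T.s b)) (hf : Faith T) {U : Subgroup G}
    (hU : Spl T U) : ∃ (V : Type u) (_ : MulAction G V) (_ : Finite V) (P : Pol G V) (x : ℤ → V),
      Dict T a b P x := by
  let l : Bool → ι := fun t => cond t b a
  have hl : l false ≠ l true := hab
  have st := gal_wz (T := T) (l := l) false
  have x0 : vx l (τ false 0) (BNP.ap T (wz T l false 0)) = vx l false (BNP.ap T 1) := by
    rw [wz_zero]; rfl
  have x1 : vx l (τ false 1) (BNP.ap T (wz T l false 1)) = vx l true (BNP.ap T 1) := by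
    have := st.vx_succ 0
    rwa [wz_zero] at this
  refine ⟨Vx T l, inferInstance, inferInstance, pol hl hι hn hf hU,
    fun k => vx l (τ false k) (BNP.ap T (wz T l false k)), rfl,
    ⟨st.line hl, fun k => by simp only [τ_two]; rw [show (pol hl hι hn hf hU).n = nn T l from rfl, wz_per]⟩,
    fun g => ?_, fun g => ⟨fun h i => by rw [smul_vx, h _ trivial], fun h w _ => ?_⟩,
    fun m hm g => ⟨fun h k h1 h2 => (kr_iff hl).1 ?_, fun h => ?_⟩, fun H hH h y => ?_,
    fun H hH h y => ?_, ?_, ?_⟩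
  · rw [x0, x1, mem_B]; exact fix_iff hl
  · obtain ⟨k, -, -, rfl⟩ := exists_wz (T := T) (l := l) hι false w
    exact (fix_iff hl).2 ⟨h k, st.vx_succ k ▸ h (k + 1)⟩
  · change m < nn T l at hm
    change k < -m + nn T l at h2
    exact h.2 _ ((wz_mem hm (by omega) (by omega)).2 ⟨by omega, h2⟩) _ (by
      rw [← wz_pred]; exact (wz_mem hm (by omega) (by omega)).2 ⟨by omega, by omega⟩)
  · change m < nn T l at hm
    change 3 ≤ nn T l at hn
    have k1 : ∀ k : ℤ, -m < k → k < -m + nn T l → g ∈ Kr T (BNP.ap T (wz T l false k))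
        {l (τ false k)} := fun k h1 h2 => (kr_iff hl).2 (h k h1 h2)
    have k2 : ∀ k : ℤ, -m < k + 1 → k + 1 < -m + nn T l → g ∈ Kr T (BNP.ap T (wz T l false k))
        {l !τ false k} := fun k h1 h2 => (kr_iff hl).2 (st.vx_succ k ▸ h _ h1 h2)
    refine ⟨fun w hw => ?_, fun w hw i hi => ?_⟩ <;>
      obtain ⟨k, a1, a2, rfl⟩ := exists_wz (T := T) (l := l) hι false w <;>
      obtain ⟨a3, a4⟩ := (wz_mem hm a1 a2).1 hw
    · by_cases r : -m < k
      exacts [Kr_self (k1 k r a4), Kr_self (k2 k (by omega) (by omega))]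
    rcases (pair_univ (l := l) hι (τ false k)).ge (Set.mem_univ i) with rfl | rfl
    · rw [← τ_succ, ← wz_succ] at hi
      exact k2 k (by omega) ((wz_mem hm (by omega) (by omega)).1 hi).2
    · rw [← wz_pred] at hi
      have := ((wz_mem hm (by omega) (by omega)).1 hi).1
      exact k1 k (by omega) a4
  · rw [x0, x1] at h; exact mouf false hH h
  · rw [x0, x1] at h; exact mouf true hH h
  · rw [x0]; exact qq_eq (l := l) false
  · rw [x1]; exact qq_eq (l := l) true

end Cfsg.Agent.BN2
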